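import Mathlib

/-!
# Functors that are bijective on morphisms between test objects
-/

set_option autoImplicit false
set_option backward.isDefEq.respectTransparency false

open CategoryTheory CategoryTheory.Limits CategoryTheory.Pretriangulated

noncomputable section

namespace Groth.Agent.PerfFF

section

variable {C D : Type*} [Category C] [Category D]

/-- The functor is bijective on morphisms from `A` to `B`. -/
def Bij (F : C ⥤ D) (A B : C) : Prop := Function.Bijective (fun f : A ⟶ B => F.map f)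

theorem bij_iso {F : C ⥤ D} {A A' B B' : C} (e : A ≅ A') (e' : B ≅ B') (h : Bij F A B) : Bij F A' B' := by
  have : (fun f : A' ⟶ B' => F.map f) =
      ((F.mapIso e).homCongr (F.mapIso e')) ∘ (fun f : A ⟶ B => F.map f) ∘ (e.homCongr e').symm := by
    funext f
    simp [Iso.homCongr]
  rw [Bij, this]
  exact ((F.mapIso e).homCongr (F.mapIso e')).bijective.comp (h.comp (e.homCongr e').symm.bijective)

variable {F : C ⥤ D}

/-- A functor with a left adjoint is bijective on morphisms out of `A` iff precomposition with the counit is. -/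
theorem bij_iff_counit {L : D ⥤ C} (adj : L ⊣ F) (A B : C) :
    Bij F A B ↔ Function.Bijective (fun g : A ⟶ B => adj.counit.app A ≫ g) := by
  have : (fun f : A ⟶ B => F.map f) = (adj.homEquiv (F.obj A) B) ∘ (fun g => adj.counit.app A ≫ g) := by
    funext f
    simp [Adjunction.homEquiv_unit]
  rw [Bij, this]
  exact ((adj.homEquiv _ _).bijective.of_comp_iff' _)

/-- A functor with a right adjoint is bijective on morphisms into `B` iff postcomposition with the unit is. -/
theorem bij_iff_unit {R : D ⥤ C} (adj : F ⊣ R) (A B : C) :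
    Bij F A B ↔ Function.Bijective (fun g : A ⟶ B => g ≫ adj.unit.app B) := by
  have : (fun g : A ⟶ B => g ≫ adj.unit.app B) = (adj.homEquiv A (F.obj B)) ∘ (fun f => F.map f) := by
    funext f
    simp [Adjunction.homEquiv_unit, adj.unit.naturality f]
  rw [Bij, this]
  exact ((adj.homEquiv _ _).bijective.of_comp_iff' _).symm

end

section

variable {C D : Type*} [Category C] [Category D] [HasShift C ℤ] [HasShift D ℤ] {F : C ⥤ D} [F.CommShift ℤ]

theorem bij_shift {A B : C} (n : ℤ) (h : Bij F A B) : Bij F (A⟦n⟧) (B⟦n⟧) := by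
  let c := F.commShiftIso n
  refine ⟨fun f g hfg => ?_, fun y => ?_⟩
  · obtain ⟨f, rfl⟩ := (shiftFunctor C n).map_surjective f
    obtain ⟨g, rfl⟩ := (shiftFunctor C n).map_surjective g
    refine congrArg _ (h.1 ((shiftFunctor D n).map_injective ((cancel_epi (c.hom.app A)).1 ?_)))
    exact (c.hom.naturality f).symm.trans ((congrArg (· ≫ _) hfg).trans (c.hom.naturality g))
  · obtain ⟨y', hy'⟩ := (shiftFunctor D n).map_surjective (c.inv.app A ≫ y ≫ c.hom.app B)
    obtain ⟨g, rfl⟩ := h.2 y'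
    refine ⟨g⟦n⟧', (cancel_mono (c.hom.app B)).1 ((c.hom.naturality g).trans ?_)⟩
    show c.hom.app A ≫ (F.map g)⟦n⟧' = _
    rw [hy', ← Category.assoc, Iso.hom_inv_id_app]
    exact Category.id_comp _

theorem bij_of_shift {A B : C} (n : ℤ) (h : Bij F A (B⟦-n⟧)) : Bij F (A⟦n⟧) B :=
  bij_iso (Iso.refl _) ((shiftFunctorCompIsoId C (-n) n (neg_add_cancel n)).app B) (bij_shift n h)

theorem bij_shift_both {A B : C} (h : ∀ i : ℤ, Bij F A (B⟦i⟧)) (n m : ℤ) : Bij F (A⟦n⟧) (B⟦m⟧) :=
  bij_of_shift n (bij_iso (Iso.refl _) ((shiftFunctorAdd' C m (-n) (m + -n) rfl).app B) (h _))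

end

section

variable {C : Type*} [Category C] [Preadditive C] [HasZeroObject C] [HasShift C ℤ]
  [∀ n : ℤ, (shiftFunctor C n).Additive] [Pretriangulated C]

/-- If a map is bijective on precomposition into all shifts of an object, its cone has no maps into them. -/
theorem cone_hom_zero (T : Triangle C) (hT : T ∈ distTriang C) (W : C)
    (h : ∀ n : ℤ, Function.Bijective (fun g : T.obj₂ ⟶ W⟦n⟧ => T.mor₁ ≫ g)) (i : ℤ)
    (φ : T.obj₃ ⟶ W⟦i⟧) : φ = 0 := by
  have h2 : T.mor₂ ≫ φ = 0 := (h i).1 (by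
    show T.mor₁ ≫ T.mor₂ ≫ φ = T.mor₁ ≫ 0
    rw [comp_distTriang_mor_zero₁₂_assoc T hT, zero_comp, comp_zero])
  obtain ⟨g, rfl⟩ := Triangle.yoneda_exact₃ T hT φ h2
  let e := (shiftFunctorAdd' C (i - 1) 1 i (by omega)).app W
  obtain ⟨g', hg'⟩ := (shiftFunctor C (1 : ℤ)).map_surjective (g ≫ e.hom)
  obtain ⟨k, hk⟩ := (h (i - 1)).2 g'
  rw [← cancel_mono e.hom, zero_comp, Category.assoc, ← hg', ← hk]
  show T.mor₃ ≫ (T.mor₁ ≫ k)⟦(1 : ℤ)⟧' = 0
  rw [Functor.map_comp, comp_distTriang_mor_zero₃₁_assoc T hT, zero_comp]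

/-- If a map is bijective on postcomposition out of all shifts of an object, its cone has no maps out of them. -/
theorem hom_cone_zero (T : Triangle C) (hT : T ∈ distTriang C) (A : C)
    (h : ∀ n : ℤ, Function.Bijective (fun g : A⟦n⟧ ⟶ T.obj₁ => g ≫ T.mor₁)) (i : ℤ)
    (φ : A⟦i⟧ ⟶ T.obj₃) : φ = 0 := by
  let e := (shiftFunctorAdd' C (i - 1) 1 i (by omega)).app A
  obtain ⟨g', hg'⟩ := (shiftFunctor C (1 : ℤ)).map_surjective (e.inv ≫ φ ≫ T.mor₃)
  have h0 : g' = 0 := (h (i - 1)).1 (by
    show g' ≫ T.mor₁ = 0 ≫ T.mor₁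
    rw [zero_comp]
    apply (shiftFunctor C (1 : ℤ)).map_injective
    rw [Functor.map_zero, Functor.map_comp, hg', Category.assoc, Category.assoc,
      comp_distTriang_mor_zero₃₁ T hT, comp_zero, comp_zero])
  rw [h0, Functor.map_zero] at hg'
  have h3 : φ ≫ T.mor₃ = 0 := by rw [← cancel_epi e.inv, comp_zero]; exact hg'.symm
  obtain ⟨g, rfl⟩ := Triangle.coyoneda_exact₃ T hT φ h3
  obtain ⟨k, rfl⟩ := (h i).2 g
  rw [Category.assoc, comp_distTriang_mor_zero₁₂ T hT, comp_zero]

end

end Groth.Agent.PerfFF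

namespace Groth.Agent.PerfFF

/-- For a fully faithful left adjoint, postcomposition with the counit is bijective out of the image. -/
theorem bij_postcomp_counit {C D : Type*} [Category C] [Category D] {F : C ⥤ D} [F.Full] [F.Faithful]
    {R : D ⥤ C} (adj : F ⊣ R) (B : D) (A : C) :
    Function.Bijective (fun φ : F.obj A ⟶ F.obj (R.obj B) => φ ≫ adj.counit.app B) := by
  have h1 : Function.Bijective (fun f : A ⟶ R.obj B => F.map f) := ⟨F.map_injective, F.map_surjective⟩
  refine (h1.of_comp_iff _).1 ?_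
  have : (fun φ : F.obj A ⟶ F.obj (R.obj B) => φ ≫ adj.counit.app B) ∘ (fun f : A ⟶ R.obj B => F.map f) =
      (adj.homEquiv A B).symm := by
    funext f
    simp [Adjunction.homEquiv_counit]
  rw [this]
  exact (adj.homEquiv A B).symm.bijective

end Groth.Agent.PerfFF
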