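import Groth.Agent.S6720
import Groth.Agent.DCohLib.SuppOpen
import Groth.Agent.IntLib.Coeff

/-!
# Skyscrapers detect perfect objects
-/

set_option autoImplicit false
set_option linter.style.haveILetI false
set_option backward.isDefEq.respectTransparency false

universe u

open CategoryTheory CategoryTheory.Limits AlgebraicGeometry

attribute [local instance] HasDerivedCategory.standard

noncomputable section

namespace Groth.Agent.PerfFF

open Groth.Agent.DCohLib Groth.Agent.DCohMore

variable {k : Type u} [Field k] {X : Scheme.{u}} [X.Over (Spec (CommRingCat.of k))]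
  [LocallyOfFiniteType (X ↘ Spec (CommRingCat.of k))] [CompactSpace X]

include k in
theorem isPerfect_sky (hreg : Models.IsRegularScheme X) (x : X) (hx : IsClosed ({x} : Set X)) :
    DCoh.IsPerfect (DCoh.inD X (SkyHomLib.skyO X x)) := by
  haveI : IsLocallyNoetherian X := LocallyOfFiniteType.isLocallyNoetherian (X ↘ Spec (CommRingCat.of k))
  haveI : IsNoetherian X := {}
  let f : Spec (X.residueField x) ⟶ X := X.fromSpecResidueField x
  haveI : IsClosedImmersion f := isClosed_singleton_iff_isClosedImmersion.1 hx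
  haveI : IsLocallyNoetherian (Spec (X.residueField x)) := LocallyOfFiniteType.isLocallyNoetherian f
  have hOc : Coh.IsCoh (SkyHomLib.skyO X x) := DevLib.isCoh_pushforward_closed f
    (DCohLib.isCoh_of_isFinLocFree (BCLib.isFinLocFree_structureModule _))
  haveI : (DCoh.inD X (SkyHomLib.skyO X x)).IsGE 0 := inferInstanceAs (((DerivedCategory.singleFunctor X.Modules 0).obj _).IsGE 0)
  haveI : (DCoh.inD X (SkyHomLib.skyO X x)).IsLE 0 := inferInstanceAs (((DerivedCategory.singleFunctor X.Modules 0).obj _).IsLE 0)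
  refine isPerfect_of_regular hreg _ 0 0 fun q => ?_
  rcases eq_or_ne q 0 with rfl | hq
  · exact isCoh_iso ((DerivedCategory.singleFunctorCompHomologyFunctorIso X.Modules 0).app _).symm hOc
  · refine isCoh_of_isFinLocFree (isFinLocFree_of_isZero ?_)
    rcases lt_or_gt_of_ne hq with hq | hq
    · exact DerivedCategory.isZero_of_isGE _ 0 q hq
    · exact DerivedCategory.isZero_of_isLE _ 0 q hq

include k in
theorem isZero_of_supports (K : DCoh.D X) (hK : DCoh.IsPerfect K)
    (h : ∀ x : X, IsClosed ({x} : Set X) → ∀ i : ℤ, x ∉ CohB1.support (DCoh.HD K i)) : IsZero K := by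
  haveI : IsLocallyNoetherian X := LocallyOfFiniteType.isLocallyNoetherian (X ↘ Spec (CommRingCat.of k))
  haveI : IsNoetherian X := {}
  refine isZero_of_isZero_HD fun i => isZero_of_stalks fun y => not_not.1 fun hy => ?_
  have hc := (isCohD_bounded_of_isPerfect K hK).1 i
  haveI := hc.1
  obtain ⟨x, hxs, hx⟩ := (PullbackMod.isClosed_support_of_isFT hc.2).exists_closed_singleton ⟨y, hy⟩
  exact h x hx i hxs

variable [(SGA6.perfP X).IsTriangulated]

/-- The skyscraper as a perfect object. -/
abbrev skyP (hreg : Models.IsRegularScheme X) (x : X) (hx : IsClosed ({x} : Set X)) :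
    (SGA6.perfP X).FullSubcategory :=
  ⟨DCoh.inD X (SkyHomLib.skyO X x), isPerfect_sky (k := k) hreg x hx⟩

theorem isZero_of_hom_to_sky (hreg : Models.IsRegularScheme X) (A : (SGA6.perfP X).FullSubcategory)
    (h : ∀ (x : X) (hx : IsClosed ({x} : Set X)) (i : ℤ) (φ : A ⟶ (skyP (k := k) hreg x hx)⟦i⟧), φ = 0) :
    IsZero A := by
  let ι := ObjectProperty.ι (SGA6.perfP X)
  refine (IsZero.iff_id_eq_zero A).2 (ι.map_injective ((isZero_of_supports (k := k) A.obj A.property
    fun x hx i => ?_).eq_of_src _ _))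
  obtain ⟨U, hxU, hU⟩ := (S6720.result k X hreg x hx A.obj A.property).2 fun j φ => by
    let c := (ι.commShiftIso j).app (skyP (k := k) hreg x hx)
    have h0 := h x hx j (ι.preimage ((show ι.obj A ⟶ (ι.obj (skyP (k := k) hreg x hx))⟦j⟧ from φ) ≫ c.inv))
    have h1 := congrArg ι.map h0
    rw [Functor.map_preimage, Functor.map_zero] at h1
    exact ((cancel_mono c.inv).1 (h1.trans zero_comp.symm))
  exact hU i x hxU

theorem isZero_of_hom_from_sky (hreg : Models.IsRegularScheme X) (A : (SGA6.perfP X).FullSubcategory)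
    (h : ∀ (x : X) (hx : IsClosed ({x} : Set X)) (i : ℤ) (φ : (skyP (k := k) hreg x hx)⟦i⟧ ⟶ A), φ = 0) :
    IsZero A := by
  let ι := ObjectProperty.ι (SGA6.perfP X)
  refine (IsZero.iff_id_eq_zero A).2 (ι.map_injective ((isZero_of_supports (k := k) A.obj A.property
    fun x hx i => ?_).eq_of_src _ _))
  obtain ⟨U, hxU, hU⟩ := (S6720.result k X hreg x hx A.obj A.property).1 fun j φ => by
    let P := skyP (k := k) hreg x hx
    let c := (ι.commShiftIso (-j)).app P
    let s := (shiftFunctorCompIsoId (DCoh.D X) j (-j) (add_neg_cancel j)).app (ι.obj A)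
    have h0 := h x hx (-j) (ι.preimage (c.hom ≫ (show ι.obj P ⟶ (ι.obj A)⟦j⟧ from φ)⟦-j⟧' ≫ s.hom))
    have h1 := congrArg ι.map h0
    rw [Functor.map_preimage, Functor.map_zero, ← comp_zero (f := c.hom)] at h1
    have h2 := ((cancel_epi c.hom).1 h1)
    rw [← zero_comp (f := s.hom)] at h2
    exact (shiftFunctor (DCoh.D X) (-j)).map_injective (((cancel_mono s.hom).1 h2).trans ((shiftFunctor (DCoh.D X) (-j)).map_zero (ι.obj P) ((ι.obj A)⟦j⟧)).symm)
  exact hU i x hxU

end Groth.Agent.PerfFF

namespace Groth.Agent.PerfFF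

open Groth.Agent.DCohLib Groth.Agent.DCohMore

variable {k : Type u} [Field k] {X : Scheme.{u}} [X.Over (Spec (CommRingCat.of k))]
  [LocallyOfFiniteType (X ↘ Spec (CommRingCat.of k))]

include k in
theorem isCoh_sky (x : X) (hx : IsClosed ({x} : Set X)) : Coh.IsCoh (SkyHomLib.skyO X x) := by
  haveI : IsLocallyNoetherian X := LocallyOfFiniteType.isLocallyNoetherian (X ↘ Spec (CommRingCat.of k))
  let f : Spec (X.residueField x) ⟶ X := X.fromSpecResidueField x
  haveI : IsClosedImmersion f := isClosed_singleton_iff_isClosedImmersion.1 hx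
  haveI : IsLocallyNoetherian (Spec (X.residueField x)) := LocallyOfFiniteType.isLocallyNoetherian f
  exact DevLib.isCoh_pushforward_closed f
    (DCohLib.isCoh_of_isFinLocFree (BCLib.isFinLocFree_structureModule _))

end Groth.Agent.PerfFF

namespace Groth.Agent.PerfFF

open Groth.Agent.DCohLib Groth.Agent.DCohMore

theorem support_sky {X : Scheme.{u}} (x : X) (hx : IsClosed ({x} : Set X)) :
    (CohB1.support (SkyHomLib.skyO X x)).Finite ∧ (CohB1.support (SkyHomLib.skyO X x)).Nonempty ∧
      ∀ y ∈ CohB1.support (SkyHomLib.skyO X x), IsClosed ({y} : Set X) := by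
  let f : Spec (X.residueField x) ⟶ X := X.fromSpecResidueField x
  haveI : IsClosedImmersion f := isClosed_singleton_iff_isClosedImmersion.1 hx
  have hsub : CohB1.support (SkyHomLib.skyO X x) ⊆ {x} :=
    (IntLib.support_pushforward_subset f _).trans (by rw [Scheme.range_fromSpecResidueField])
  refine ⟨(Set.finite_singleton x).subset hsub, ?_, fun y hy => (Set.mem_singleton_iff.1 (hsub hy)) ▸ hx⟩
  by_contra hne
  have h0 : IsZero (SkyHomLib.skyO X x) := isZero_of_stalks fun y => not_not.1 fun hy => hne ⟨y, hy⟩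
  have this := isIso_counit_closedImmersion f (Coh.structureModule (Spec (X.residueField x)))
  have h1 : IsZero (Coh.structureModule (Spec (X.residueField x))) :=
    ((Scheme.Modules.pullback f).map_isZero h0).of_iso
      (@asIso _ _ _ _ _ this).symm
  haveI : Nontrivial (Coh.Γtop (Spec (X.residueField x))) :=
    (Scheme.ΓSpecIso (X.residueField x)).commRingCatIsoToRingEquiv.toEquiv.nontrivial
  haveI : Subsingleton (Coh.Γtop (Spec (X.residueField x))) :=
    AddCommGrpCat.subsingleton_of_isZero (((Scheme.Modules.toPresheaf _).map_isZero h1).obj (Opposite.op ⊤))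
  exact not_subsingleton (Coh.Γtop (Spec (X.residueField x))) inferInstance

end Groth.Agent.PerfFF
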