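import Groth.Agent.PerfFF.Bij
import Groth.Agent.PerfFF.Span

/-!
# Full faithfulness tested on skyscrapers
-/

set_option autoImplicit false
set_option linter.style.haveILetI false
set_option backward.isDefEq.respectTransparency false

universe u v w

open CategoryTheory CategoryTheory.Limits CategoryTheory.Pretriangulated AlgebraicGeometry

attribute [local instance] HasDerivedCategory.standard

noncomputable section

namespace Groth.Agent.PerfFF

variable {k : Type u} [Field k] {X : Scheme.{u}} [X.Over (Spec (CommRingCat.of k))]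
  [LocallyOfFiniteType (X ↘ Spec (CommRingCat.of k))] [CompactSpace X] [(SGA6.perfP X).IsTriangulated]
  {D : Type w} [Category.{v} D] (F : (SGA6.perfP X).FullSubcategory ⥤ D)

/-- Bijectivity into skyscrapers gives bijectivity into all objects, for a functor with a left adjoint. -/
theorem bij_of_bij_to_sky [F.IsRightAdjoint] (hreg : Models.IsRegularScheme X)
    (A : (SGA6.perfP X).FullSubcategory)
    (h : ∀ (x : X) (hx : IsClosed ({x} : Set X)) (i : ℤ), Bij F A ((skyP (k := k) hreg x hx)⟦i⟧))
    (B : (SGA6.perfP X).FullSubcategory) : Bij F A B := by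
  let adj := Adjunction.ofIsRightAdjoint F
  obtain ⟨Z, g, δ, hT⟩ := distinguished_cocone_triangle (adj.counit.app A)
  have hZ : IsZero Z := isZero_of_hom_to_sky (k := k) hreg Z fun x hx i φ =>
    cone_hom_zero _ hT _ (fun n => (bij_iff_counit adj A _).1 (h x hx n)) i φ
  haveI : IsIso (adj.counit.app A) := (Triangle.isZero₃_iff_isIso₁ (Triangle.mk _ g δ) hT).1 hZ
  exact (bij_iff_counit adj A B).2 ((asIso (adj.counit.app A)).symm.homFromEquiv.bijective)

/-- Bijectivity out of skyscrapers gives full faithfulness, for a functor with a right adjoint. -/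
theorem fullyFaithful_of_bij_from_sky [F.IsLeftAdjoint] [HasShift D ℤ] [F.CommShift ℤ]
    (hreg : Models.IsRegularScheme X)
    (h : ∀ (x : X) (hx : IsClosed ({x} : Set X)) (B : (SGA6.perfP X).FullSubcategory),
      Bij F (skyP (k := k) hreg x hx) B) : F.Full ∧ F.Faithful := by
  let adj := Adjunction.ofIsLeftAdjoint F
  have hall : ∀ A B, Bij F A B := fun A B => by
    obtain ⟨Z, g, δ, hT⟩ := distinguished_cocone_triangle (adj.unit.app B)
    have hZ : IsZero Z := isZero_of_hom_from_sky (k := k) hreg Z fun x hx i φ =>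
      hom_cone_zero _ hT _ (fun n => (bij_iff_unit adj _ B).1 (bij_of_shift n (h x hx _))) i φ
    haveI : IsIso (adj.unit.app B) := (Triangle.isZero₃_iff_isIso₁ (Triangle.mk _ g δ) hT).1 hZ
    exact (bij_iff_unit adj A B).2 ((asIso (adj.unit.app B)).homToEquiv.bijective)
  exact ⟨⟨fun {A B} => (hall A B).2⟩, ⟨fun {A B} _ _ e => (hall A B).1 e⟩⟩

end Groth.Agent.PerfFF
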